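import Groth.Agent.H19Grp.ImageFactor
import Groth.Agent.H19Grp.AffineQuotient
import Groth.Agent.H19Grp.Basic
import Groth.Agent.H19Grp.Diagonal
import Groth.Agent.S4362

/-!
# Homomorphisms from algebraic groups to pro-algebraic groups
-/

set_option autoImplicit false
set_option linter.style.haveILetI false
set_option backward.isDefEq.respectTransparency false

universe u

open CategoryTheory CategoryTheory.Limits MonoidalCategory CartesianMonoidalCategory MonObj GrpObj
  AlgebraicGeometry

namespace Groth.Agent.H13GrpLimit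

open Groth.Agent.H19Grp

variable {k : Type u} [Field k]

/-- The ideal of the kernel. -/
noncomputable def kerIdeal {G H : Over (Spec (CommRingCat.of k))} [GrpObj H] (v : G ⟶ H) : G.left.IdealSheafData :=
  (pullback.fst v.left (η[H] : 𝟙_ (Over (Spec (CommRingCat.of k))) ⟶ H).left).ker

theorem comp_eq_one_iff {G H : Over (Spec (CommRingCat.of k))} [GrpObj H] (v : G ⟶ H) [IsSeparated H.hom]
    {T : Over (Spec (CommRingCat.of k))} (z : T ⟶ G) :
    z ≫ v = 1 ↔ kerIdeal v ≤ z.left.ker := by
  haveI : IsClosedImmersion (η[H] : 𝟙_ (Over (Spec (CommRingCat.of k))) ⟶ H).left :=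
    (isSeparated_iff_isClosedImmersion_one H).1 inferInstance
  haveI : IsClosedImmersion (pullback.fst v.left (η[H] : 𝟙_ (Over (Spec (CommRingCat.of k))) ⟶ H).left) :=
    inferInstance
  have hone : (1 : T ⟶ H).left = T.hom ≫ (η[H] : 𝟙_ (Over (Spec (CommRingCat.of k))) ⟶ H).left := by
    rw [Hom.one_def, Over.comp_left]
    rfl
  constructor
  · intro h
    have hw : z.left ≫ v.left = T.hom ≫ (η[H] : 𝟙_ (Over (Spec (CommRingCat.of k))) ⟶ H).left := by
      rw [← Over.comp_left, h, hone]
    unfold kerIdeal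
    rw [← pullback.lift_fst z.left T.hom hw]
    exact (pullback.lift z.left T.hom hw).le_ker_comp _
  · intro h
    let l := IsClosedImmersion.lift (pullback.fst v.left (η[H] : 𝟙_ (Over (Spec (CommRingCat.of k))) ⟶ H).left) z.left h
    have hl : l ≫ pullback.fst v.left _ = z.left := IsClosedImmersion.lift_fac _ _ _
    apply Over.OverMorphism.ext
    rw [Over.comp_left, hone, ← hl, Category.assoc, pullback.condition, ← Category.assoc]
    congr 1
    have h2 := congrArg (· ≫ H.hom) (pullback.condition (f := v.left) (g := (η[H] : 𝟙_ (Over (Spec (CommRingCat.of k))) ⟶ H).left))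
    simp only [Category.assoc, Over.w] at h2
    calc l ≫ pullback.snd v.left _ = l ≫ pullback.snd v.left _ ≫ (𝟙_ (Over (Spec (CommRingCat.of k)))).hom := by
          rw [show (𝟙_ (Over (Spec (CommRingCat.of k)))).hom = 𝟙 _ from rfl, Category.comp_id]
      _ = z.left ≫ G.hom := by rw [← h2, ← Category.assoc, hl]
      _ = T.hom := Over.w z

theorem comp_eq_comp_iff {G H T : Over (Spec (CommRingCat.of k))} [GrpObj G] [GrpObj H] (v : G ⟶ H) [IsMonHom v]
    (x y : T ⟶ G) : x ≫ v = y ≫ v ↔ (x * y⁻¹) ≫ v = 1 := by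
  rw [MonObj.mul_comp, GrpObj.inv_comp, mul_inv_eq_one]

/-- The statement. -/
theorem main (G : Over (Spec (CommRingCat.of k))) [GrpObj G]
    [LocallyOfFiniteType G.hom] [QuasiCompact G.hom]
    (J : Type u) [SmallCategory J] [IsCofiltered J] (D : J ⥤ Over (Spec (CommRingCat.of k)))
    [∀ j, GrpObj (D.obj j)] [∀ (j j' : J) (φ : j ⟶ j'), IsMonHom (D.map φ)]
    (hD : ∀ j, LocallyOfFiniteType (D.obj j).hom ∧ QuasiCompact (D.obj j).hom)
    (c : Cone D) (hc : IsLimit c) [GrpObj c.pt] [∀ j, IsMonHom (M := c.pt) (N := D.obj j) (c.π.app j)]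
    (u : G ⟶ c.pt) [IsMonHom u] [QuasiCompact u.left] (hdom : u.left.ker = ⊥) :
    Flat u.left ∧ Surjective u.left ∧ LocallyOfFiniteType c.pt.hom ∧ QuasiCompact c.pt.hom := by
  haveI := fun j => (hD j).1
  haveI := fun j => AffineQuotient.isSeparated_of_grp (D.obj j)
  haveI : IsSeparated c.pt.hom := AffineQuotient.isSeparated_of_grp c.pt
  haveI : IsLocallyNoetherian G.left := LocallyOfFiniteType.isLocallyNoetherian G.hom
  haveI : CompactSpace G.left := QuasiCompact.compactSpace_of_compactSpace G.hom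
  haveI : IsNoetherian G.left := ⟨⟩
  haveI : WellFoundedGT G.left.IdealSheafData := Groth.Agent.S4362.result G.left
  obtain ⟨_, ⟨j₀, rfl⟩, hmax⟩ := (wellFounded_gt (α := G.left.IdealSheafData)).has_min
    (Set.range fun j => kerIdeal (u ≫ c.π.app j)) ⟨_, IsCofiltered.nonempty.some, rfl⟩
  -- all kernels contain the kernel at the minimal stage
  have hker : ∀ (j : J) {T : Over (Spec (CommRingCat.of k))} (z : T ⟶ G),
      z ≫ u ≫ c.π.app j₀ = 1 → z ≫ u ≫ c.π.app j = 1 := by
    intro j T z hz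
    let j' := IsCofiltered.min j₀ j
    have h : ∀ {j₁ : J} (φ : j' ⟶ j₁) {T' : Over (Spec (CommRingCat.of k))} (w : T' ⟶ G),
        w ≫ u ≫ c.π.app j' = 1 → w ≫ u ≫ c.π.app j₁ = 1 := fun φ T' w hw => by
      rw [← c.w φ, ← Category.assoc u, ← Category.assoc w, hw, MonObj.one_comp]
    refine h (IsCofiltered.minToRight j₀ j) z ?_
    rw [comp_eq_one_iff] at hz ⊢
    refine le_trans ?_ hz
    have hle : kerIdeal (u ≫ c.π.app j₀) ≤ kerIdeal (u ≫ c.π.app j') := by
      let N : Over (Spec (CommRingCat.of k)) := Over.mk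
        (pullback.fst (u ≫ c.π.app j').left (η[D.obj j'] : 𝟙_ _ ⟶ D.obj j').left ≫ G.hom)
      let z' : N ⟶ G := Over.homMk (pullback.fst (u ≫ c.π.app j').left _) rfl
      exact (comp_eq_one_iff _ z').1 (h (IsCofiltered.minToLeft j₀ j) z' ((comp_eq_one_iff _ z').2 le_rfl))
    exact (hle.lt_or_eq.resolve_left fun h' => hmax _ ⟨j', rfl⟩ h').ge
  -- the image at the minimal stage
  haveI : QuasiCompact (u ≫ c.π.app j₀).left := by
    haveI : QuasiCompact ((u ≫ c.π.app j₀).left ≫ (D.obj j₀).hom) := by rw [Over.w]; infer_instance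
    exact QuasiCompact.of_comp _ (D.obj j₀).hom
  obtain ⟨C, gC, p, i, hp, hi, hpi, hf, hs, hfp, hcl, hC, hpc⟩ :=
    ImageFactor.exists_image_factor G (D.obj j₀) (u ≫ c.π.app j₀) (by
      have h : ∀ {X : Scheme.{u}} (f : X ⟶ Spec (CommRingCat.of k)), Flat f := fun f => inferInstance
      exact h _)
  haveI := hp
  have hdesc : ∀ j, ∃ s : C ⟶ D.obj j, p ≫ s = u ≫ c.π.app j := by
    intro j
    have hco : ∀ {Z : Scheme.{u}} (g₁ g₂ : Z ⟶ G.left), g₁ ≫ p.left = g₂ ≫ p.left →
        g₁ ≫ (u ≫ c.π.app j).left = g₂ ≫ (u ≫ c.π.app j).left := fun {Z} g₁ g₂ hg => by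
      have hw : g₂ ≫ G.hom = g₁ ≫ G.hom := by
        rw [← Over.w p, ← reassoc_of% hg]
      let x : Over.mk (g₁ ≫ G.hom) ⟶ G := Over.homMk g₁ rfl
      let y : Over.mk (g₁ ≫ G.hom) ⟶ G := Over.homMk g₂ hw
      have hxy : x ≫ u ≫ c.π.app j₀ = y ≫ u ≫ c.π.app j₀ := by
        rw [← hpi, ← Category.assoc, ← Category.assoc]
        exact congrArg (· ≫ i) (Over.OverMorphism.ext hg)
      exact congrArg Over.Hom.left ((comp_eq_comp_iff _ x y).2 (hker j _ ((comp_eq_comp_iff _ x y).1 hxy)))
    have hfac := EffectiveEpi.fac p.left (u ≫ c.π.app j).left hco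
    refine ⟨Over.homMk (EffectiveEpi.desc p.left _ hco) ?_, Over.OverMorphism.ext hfac⟩
    rw [← cancel_epi p.left, reassoc_of% hfac, Over.w p]
    exact Over.w (u ≫ c.π.app j)
  choose s hs' using hdesc
  haveI : Epi p := (Over.forget _).epi_of_epi_map (inferInstanceAs (Epi p.left))
  let sc : Cone D := ⟨C, { app := s
                           naturality := fun j j' φ => by
                             rw [← cancel_epi p]
                             simp [hs', reassoc_of% hs', c.w] }⟩
  let σ : C ⟶ c.pt := hc.lift sc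
  have hσ : p ≫ σ = u := hc.hom_ext fun j => by
    rw [Category.assoc, hc.fac, ← hs' j]
  have hσi : σ ≫ c.π.app j₀ = i := by
    rw [← cancel_epi p, hpi, ← Category.assoc, hσ]
  haveI : IsClosedImmersion σ.left := by
    haveI : IsSeparated ((c.π.app j₀).left ≫ (D.obj j₀).hom) := by rw [Over.w]; exact ‹IsSeparated c.pt.hom›
    haveI : IsSeparated (c.π.app j₀).left := IsSeparated.of_comp _ (D.obj j₀).hom
    haveI : IsClosedImmersion (σ.left ≫ (c.π.app j₀).left) := by
      rw [← Over.comp_left, hσi]; exact hcl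
    exact IsClosedImmersion.of_comp σ.left (c.π.app j₀).left
  have hker' : σ.left.ker = ⊥ := by
    refine le_bot_iff.mp ?_
    rw [← hdom, ← hσ, Over.comp_left]
    exact p.left.le_ker_comp σ.left
  haveI : IsIso σ.left := IsClosedImmersion.isIso_iff_ker_eq_bot.mpr hker'
  rw [← hσ, Over.comp_left]
  have hC' : c.pt.hom = inv σ.left ≫ C.hom := by rw [← Over.w σ, IsIso.inv_hom_id_assoc]
  refine ⟨inferInstance, inferInstance, by rw [hC']; infer_instance, ?_⟩
  have : CompactSpace c.pt.left := (p.left ≫ σ.left).surjective.compactSpace (p.left ≫ σ.left).continuous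
  exact (quasiCompact_iff_compactSpace c.pt.hom).2 this

end Groth.Agent.H13GrpLimit
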